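import Cfsg.Agent.Lib.Helper99.C64.Defs
import Cfsg.Agent.Lib.Helper48.X27.Easy

set_option autoImplicit false

namespace Cfsg.Agent.Lib.Helper83.C64

open Cfsg.Agent.Lib.Helper99.C64

universe u

theorem pkgBad3 : PkgBad3.{u} := by
  intro F _ _ p _ _ hF hp3
  obtain ⟨ω, hω1, hω3⟩ := Cfsg.Agent.Lib.Helper48.X27.pkgRoot3 (F := F) (by rw [hF]; exact hp3)
  have hw : ω ^ 2 + ω + 1 = 0 := by
    have h : (ω - 1) * (ω ^ 2 + ω + 1) = 0 := by linear_combination hω3
    rcases mul_eq_zero.mp h with h | h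
    · exact (hω1 (sub_eq_zero.mp h)).elim
    · exact h
  have e1 : ω * ω ^ 2 = 1 := by linear_combination hω3
  have e2 : ω ^ 2 * ω = 1 := by linear_combination hω3
  obtain ⟨x, hx, hxi⟩ : ∃ x : GL (Fin 4) F, (x : M4 F) = Matrix.diagonal ![ω, ω, ω, 1] ∧
      ((x⁻¹ : GL (Fin 4) F) : M4 F) = Matrix.diagonal ![ω ^ 2, ω ^ 2, ω ^ 2, 1] :=
    ⟨⟨Matrix.diagonal ![ω, ω, ω, 1], Matrix.diagonal ![ω ^ 2, ω ^ 2, ω ^ 2, 1],
      by
        rw [Matrix.diagonal_mul_diagonal, ← Matrix.diagonal_one]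
        congr 1
        funext i
        fin_cases i <;> simp [e1],
      by
        rw [Matrix.diagonal_mul_diagonal, ← Matrix.diagonal_one]
        congr 1
        funext i
        fin_cases i <;> simp [e2]⟩, rfl, rfl⟩
  refine ⟨x, ?_, ?_, ?_, ?_⟩
  · show x ∈ (Matrix.GeneralLinearGroup.det : GL (Fin 4) F →* Fˣ).ker
    rw [MonoidHom.mem_ker]
    apply Units.ext
    rw [Matrix.GeneralLinearGroup.val_det_apply, hx, Matrix.det_diagonal, Fin.prod_univ_four,
      Units.val_one]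
    simp
    linear_combination hω3
  · apply Units.ext
    rw [Units.val_pow_eq_pow_val, hx, Matrix.diagonal_pow, Units.val_one, ← Matrix.diagonal_one]
    congr 1
    funext i
    fin_cases i <;> simp [hω3]
  · rintro ⟨z, hz⟩
    rw [hx] at hz
    have h0 := congrFun (congrFun hz 0) 0
    have h3 := congrFun (congrFun hz 3) 3
    simp at h0 h3
    exact hω1 (by rw [h0, ← h3])
  · rw [hx, hxi, Matrix.trace_diagonal, Matrix.trace_diagonal, Fin.sum_univ_four,
      Fin.sum_univ_four]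
    simp
    linear_combination (9 * ω - 6) * hw

end Cfsg.Agent.Lib.Helper83.C64
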