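import Cfsg.Agent.Lib.Helper99.C64.Defs
import Cfsg.Agent.Lib.Helper19.X32.QR5

set_option autoImplicit false

namespace Cfsg.Agent.Lib.Helper83.C64

open Cfsg.Agent.Lib.Helper99.C64

universe u

section

variable {F : Type u} [Field F]

/-- the `2 × 2` block `[[a, b], [c, d]]` on the first two coordinates, identity on the others -/
def blk (a b c d : F) : M4 F := !![a, b, 0, 0; c, d, 0, 0; 0, 0, 1, 0; 0, 0, 0, 1]

theorem blk_ext {a b c d a' b' c' d' : F} (ha : a = a') (hb : b = b') (hc : c = c')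
    (hd : d = d') : blk a b c d = blk a' b' c' d' := by
  rw [ha, hb, hc, hd]

theorem blk_mul (a b c d a' b' c' d' : F) :
    blk a b c d * blk a' b' c' d' =
      blk (a * a' + b * c') (a * b' + b * d') (c * a' + d * c') (c * b' + d * d') := by
  unfold blk
  ext i j
  fin_cases i <;> fin_cases j <;> simp [Matrix.mul_apply, Fin.sum_univ_four]

theorem blk_one : blk (1 : F) 0 0 1 = 1 := by
  unfold blk
  ext i j
  fin_cases i <;> fin_cases j <;> simp

theorem blk_det (a b c d : F) : (blk a b c d).det = a * d - b * c := by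
  unfold blk
  rw [Matrix.det_succ_row_zero]
  simp [Fin.sum_univ_succ, Matrix.det_fin_three, Fin.succAbove, Matrix.submatrix]
  ring

theorem blk_trace (a b c d : F) : Matrix.trace (blk a b c d) = a + d + 2 := by
  unfold blk
  rw [Matrix.trace, Fin.sum_univ_four]
  simp
  ring

end

theorem pkgBad5 : PkgBad5.{u} := by
  intro F _ _ p _ _ hF hp4 hp5 hord
  have hodd : Odd p := by rw [Nat.odd_iff]; omega
  haveI : Fact (Nat.Prime 5) := ⟨by norm_num⟩
  have hpP : p.Prime := Fact.out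
  have hne : ((p : ℕ) : ZMod 5) ≠ 0 := by
    intro h
    rw [ZMod.natCast_eq_zero_iff] at h
    exact hp5 ((Nat.prime_dvd_prime_iff_eq (by norm_num) hpP).mp h).symm
  have h12 : orderOf ((p : ℕ) : ZMod 5) = 1 ∨ orderOf ((p : ℕ) : ZMod 5) = 2 := by
    have h4 : ((p : ℕ) : ZMod 5) ^ (5 - 1) = 1 := ZMod.pow_card_sub_one_eq_one hne
    have hd : orderOf ((p : ℕ) : ZMod 5) ∣ 2 ^ 2 := orderOf_dvd_of_pow_eq_one h4
    obtain ⟨k, hk, hk'⟩ := (Nat.dvd_prime_pow Nat.prime_two).mp hd
    interval_cases k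
    · left; rw [hk']; norm_num
    · right; rw [hk']; norm_num
    · exfalso; apply hord; rw [hk']; norm_num
  obtain ⟨t, ht⟩ := Cfsg.Agent.Lib.Helper19.X32.pkgQR5 hF hodd h12
  obtain ⟨x, hx, hxi⟩ : ∃ x : GL (Fin 4) F, (x : M4 F) = blk 0 (-1) 1 t ∧
      ((x⁻¹ : GL (Fin 4) F) : M4 F) = blk t 1 (-1) 0 :=
    ⟨⟨blk 0 (-1) 1 t, blk t 1 (-1) 0,
      by rw [blk_mul, ← blk_one]; exact blk_ext (by ring) (by ring) (by ring) (by ring),
      by rw [blk_mul, ← blk_one]; exact blk_ext (by ring) (by ring) (by ring) (by ring)⟩,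
      rfl, rfl⟩
  refine ⟨x, ?_, ?_, ?_, t, by linear_combination ht, ?_, ?_⟩
  · show x ∈ (Matrix.GeneralLinearGroup.det : GL (Fin 4) F →* Fˣ).ker
    rw [MonoidHom.mem_ker]
    apply Units.ext
    rw [Matrix.GeneralLinearGroup.val_det_apply, hx, blk_det, Units.val_one]
    ring
  · apply Units.ext
    rw [Units.val_pow_eq_pow_val, hx, Units.val_one, pow_succ, pow_succ, pow_succ, pow_succ,
      pow_one, blk_mul, blk_mul, blk_mul, blk_mul, ← blk_one]
    exact blk_ext (by linear_combination (1 - t) * ht)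
      (by linear_combination (-t ^ 2 + t + 1) * ht)
      (by linear_combination (t ^ 2 - t - 1) * ht)
      (by linear_combination (t ^ 3 - t ^ 2 - 2 * t + 1) * ht)
  · rintro ⟨z, hz⟩
    rw [hx] at hz
    have h01 := congrFun (congrFun hz 0) 1
    unfold blk at h01
    simp at h01
  · rw [hx, blk_trace]; ring
  · rw [hxi, blk_trace]; ring

end Cfsg.Agent.Lib.Helper83.C64
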