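import Cfsg.Agent.Lib.Helper99.C64.Defs

set_option autoImplicit false

namespace Cfsg.Agent.Lib.Helper83.C64

open Cfsg.Agent.Lib.Helper99.C64

universe u

section

variable {F : Type u} [Field F]

/-- normal form `C ⊕ C`, `C` the companion matrix of `X² + X + 1` -/
def nf1 : M4 F := !![0, -1, 0, 0; 1, -1, 0, 0; 0, 0, 0, -1; 0, 0, 1, -1]

/-- normal form `1 ⊕ 1 ⊕ C` -/
def nf2 : M4 F := !![1, 0, 0, 0; 0, 1, 0, 0; 0, 0, 0, -1; 0, 0, 1, -1]

theorem gmul (ι : F) (hι : ι ^ 2 = -1) (P Q U V : M4 F) :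
    (P + ι • Q) * (U + ι • V) = (P * U - Q * V) + ι • (P * V + Q * U) := by
  have h : ι * ι = -1 := by rw [← pow_two]; exact hι
  rw [add_mul, mul_add, mul_add, Matrix.smul_mul, Matrix.mul_smul, Matrix.smul_mul,
    Matrix.mul_smul, smul_smul, h]
  module

theorem isUnit_of_mul_eq_one_right (a b : M4 F) (h : a * b = 1) : IsUnit a := by
  rw [Matrix.isUnit_iff_isUnit_det, isUnit_iff_ne_zero]
  have h1 : a.det * b.det = 1 := by rw [← Matrix.det_mul, h, Matrix.det_one]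
  exact left_ne_zero_of_mul_eq_one h1

/-- twice the real part of `hA` -/
def gPA : M4 F := !![-1, 0, -1, 0; 0, -1, 0, -1; 1, 0, -1, 0; 0, 1, 0, -1]
/-- twice the imaginary part of `hA` -/
def gQA : M4 F := !![1, 0, 1, 0; 0, 1, 0, 1; 1, 0, -1, 0; 0, 1, 0, -1]
/-- twice the real part of `hB` -/
def gPB : M4 F := !![0, 0, 0, 0; -1, 1, -1, 1; -1, -1, 1, 1; 0, 0, 0, 0]
/-- twice the imaginary part of `hB` -/
def gQB : M4 F := !![-1, -1, -1, -1; 0, 0, 0, 0; 0, 0, 0, 0; 1, -1, -1, 1]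
/-- frame for `hA`, real part -/
def gUA0 : M4 F := !![2, -1, 0, 0; 0, 0, 2, -1; 0, 1, 0, 0; 0, 0, 0, 1]
/-- frame for `hA`, imaginary part -/
def gUA1 : M4 F := !![0, 1, 0, 0; 0, 0, 0, 1; 0, 1, 0, 0; 0, 0, 0, 1]
/-- inverse frame for `hA` (times 2), real part -/
def gVA0 : M4 F := !![1, 0, 0, 0; 0, 0, 1, 0; 0, 1, 0, 0; 0, 0, 0, 1]
/-- inverse frame for `hA` (times 2), imaginary part -/
def gVA1 : M4 F := !![0, 0, -1, 0; 0, 0, -1, 0; 0, 0, 0, -1; 0, 0, 0, -1]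
/-- frame for `hB`, real part -/
def gUB0 : M4 F := !![0, 1, -2, 0; 1, -1, -1, 1; -1, 0, -1, 1; 0, 0, 0, 0]
/-- frame for `hB`, imaginary part -/
def gUB1 : M4 F := !![0, 0, -1, 2; 0, 1, 0, 1; 0, 0, 0, 1; 0, 1, 1, 0]
/-- inverse frame for `hB` (times 6), real part -/
def gVB0 : M4 F := !![1, 2, -4, -1; 2, -1, -1, 0; -2, 1, 1, 0; -1, 2, 2, -3]
/-- inverse frame for `hB` (times 6), imaginary part -/
def gVB1 : M4 F := !![-1, 0, 0, -1; 0, -1, -1, -2; 0, 1, 1, -4; 0, -1, -1, -2]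

theorem hA_eq (ι : F) : hA ι = (2 : F)⁻¹ • (gPA + ι • gQA) := by
  ext i j
  fin_cases i <;> fin_cases j <;> simp [hA, gPA, gQA] <;>
    first
    | ring1
    | exact Or.inl trivial
    | exact Or.inl (by ring1)

theorem hB_eq (ι : F) : hB ι = (2 : F)⁻¹ • (gPB + ι • gQB) := by
  ext i j
  fin_cases i <;> fin_cases j <;> simp [hB, gPB, gQB] <;>
    first
    | ring1
    | exact Or.inl trivial
    | exact Or.inl (by ring1)

theorem gA1 : (gPA : M4 F) * gUA0 - gQA * gUA1 = (2 : F) • (gUA0 * nf1) := by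
  ext i j
  fin_cases i <;> fin_cases j <;>
    simp [gPA, gQA, gUA0, gUA1, nf1, Matrix.mul_apply, Fin.sum_univ_four] <;> norm_num

theorem gA2 : (gPA : M4 F) * gUA1 + gQA * gUA0 = (2 : F) • (gUA1 * nf1) := by
  ext i j
  fin_cases i <;> fin_cases j <;>
    simp [gPA, gQA, gUA0, gUA1, nf1, Matrix.mul_apply, Fin.sum_univ_four] <;> norm_num

theorem gA3 : (gUA0 : M4 F) * gVA0 - gUA1 * gVA1 = (2 : F) • (1 : M4 F) := by
  ext i j
  fin_cases i <;> fin_cases j <;>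
    simp [gUA0, gUA1, gVA0, gVA1, Matrix.mul_apply, Fin.sum_univ_four] <;> norm_num

theorem gA4 : (gUA0 : M4 F) * gVA1 + gUA1 * gVA0 = 0 := by
  ext i j
  fin_cases i <;> fin_cases j <;>
    simp [gUA0, gUA1, gVA0, gVA1, Matrix.mul_apply, Fin.sum_univ_four] <;> norm_num

theorem gB1 : (gPB : M4 F) * gUB0 - gQB * gUB1 = (2 : F) • (gUB0 * nf2) := by
  ext i j
  fin_cases i <;> fin_cases j <;>
    simp [gPB, gQB, gUB0, gUB1, nf2, Matrix.mul_apply, Fin.sum_univ_four] <;> norm_num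

theorem gB2 : (gPB : M4 F) * gUB1 + gQB * gUB0 = (2 : F) • (gUB1 * nf2) := by
  ext i j
  fin_cases i <;> fin_cases j <;>
    simp [gPB, gQB, gUB0, gUB1, nf2, Matrix.mul_apply, Fin.sum_univ_four] <;> norm_num

theorem gB3 : (gUB0 : M4 F) * gVB0 - gUB1 * gVB1 = (6 : F) • (1 : M4 F) := by
  ext i j
  fin_cases i <;> fin_cases j <;>
    simp [gUB0, gUB1, gVB0, gVB1, Matrix.mul_apply, Fin.sum_univ_four] <;> norm_num

theorem gB4 : (gUB0 : M4 F) * gVB1 + gUB1 * gVB0 = 0 := by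
  ext i j
  fin_cases i <;> fin_cases j <;>
    simp [gUB0, gUB1, gVB0, gVB1, Matrix.mul_apply, Fin.sum_univ_four] <;> norm_num

/-- `hA` is conjugate to the normal form `nf1`. -/
theorem hA_frame (h2 : (2 : F) ≠ 0) (ι : F) (hι : ι ^ 2 = -1) :
    ∃ u : M4 F, IsUnit u ∧ hA ι * u = u * nf1 := by
  refine ⟨gUA0 + ι • gUA1, ?_, ?_⟩
  · apply isUnit_of_mul_eq_one_right _ ((2 : F)⁻¹ • (gVA0 + ι • gVA1))
    rw [Matrix.mul_smul, gmul ι hι, gA3, gA4, smul_zero, add_zero, smul_smul,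
      inv_mul_cancel₀ h2, one_smul]
  · rw [hA_eq, Matrix.smul_mul, gmul ι hι, gA1, gA2, add_mul, Matrix.smul_mul, smul_add,
      smul_smul, inv_mul_cancel₀ h2, one_smul, smul_comm ι (2 : F), smul_smul,
      inv_mul_cancel₀ h2, one_smul]

/-- `hB` is conjugate to the normal form `nf2`. -/
theorem hB_frame (h2 : (2 : F) ≠ 0) (h3 : (3 : F) ≠ 0) (ι : F) (hι : ι ^ 2 = -1) :
    ∃ u : M4 F, IsUnit u ∧ hB ι * u = u * nf2 := by
  have h6 : (6 : F) ≠ 0 := by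
    have e : (6 : F) = 2 * 3 := by norm_num
    rw [e]; exact mul_ne_zero h2 h3
  refine ⟨gUB0 + ι • gUB1, ?_, ?_⟩
  · apply isUnit_of_mul_eq_one_right _ ((6 : F)⁻¹ • (gVB0 + ι • gVB1))
    rw [Matrix.mul_smul, gmul ι hι, gB3, gB4, smul_zero, add_zero, smul_smul,
      inv_mul_cancel₀ h6, one_smul]
  · rw [hB_eq, Matrix.smul_mul, gmul ι hι, gB1, gB2, add_mul, Matrix.smul_mul, smul_add,
      smul_smul, inv_mul_cancel₀ h2, one_smul, smul_comm ι (2 : F), smul_smul,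
      inv_mul_cancel₀ h2, one_smul]

end

end Cfsg.Agent.Lib.Helper83.C64
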