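import Cfsg.Agent.Lib.Helper83.C64.Frame4
import Cfsg.Agent.Lib.Helper83.C64.HFrames

set_option autoImplicit false

namespace Cfsg.Agent.Lib.Helper83.C64

open Cfsg.Agent.Lib.Helper99.C64

universe u

section

variable {F : Type u} [Field F]

/-- A matrix of order 3 on `F^4` (no primitive cube roots of unity in `F`, `3 ≠ 0`) is conjugate to
one of the normal forms `nf1 = C ⊕ C`, `nf2 = 1 ⊕ 1 ⊕ C`. -/
theorem ord3_frame4 (h3 : (3 : F) ≠ 0) (hno : ∀ a : F, a * a + a + 1 ≠ 0) (Y : M4 F)
    (hY3 : Y * Y * Y = 1) (hY1 : Y ≠ 1) :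
    ∃ u : M4 F, IsUnit u ∧ (Y * u = u * nf1 ∨ Y * u = u * nf2) := by
  have hY : ∀ v, Y.mulVec (Y.mulVec (Y.mulVec v)) = v := by
    intro v
    rw [Matrix.mulVec_mulVec, Matrix.mulVec_mulVec, hY3, Matrix.one_mulVec]
  have lemA : ∀ v : Fin 4 → F, v ≠ 0 → Y.mulVec (Y.mulVec v) + Y.mulVec v + v = 0 →
      LinearIndependent F ![v, Y.mulVec v] := by
    intro v hv hW
    rw [LinearIndependent.pair_iff]
    intro s t hst
    by_cases ht : t = 0
    · rw [ht, zero_smul, add_zero] at hst
      rcases smul_eq_zero.mp hst with h | h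
      · exact ⟨h, ht⟩
      · exact (hv h).elim
    · exfalso
      have h1 : t • Y.mulVec v = -(s • v) := eq_neg_of_add_eq_zero_right hst
      obtain ⟨l, hl⟩ : ∃ l : F, l = -(t⁻¹ * s) := ⟨_, rfl⟩
      have h2 : Y.mulVec v = l • v := by
        have e : Y.mulVec v = t⁻¹ • (t • Y.mulVec v) := by
          rw [smul_smul, inv_mul_cancel₀ ht, one_smul]
        rw [e, h1, smul_neg, smul_smul, hl, neg_smul]
      rw [h2, Matrix.mulVec_smul, h2, smul_smul] at hW
      have h4 : (l * l + l + 1) • v = 0 := by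
        rw [add_smul, add_smul, one_smul]; exact hW
      rcases smul_eq_zero.mp h4 with h5 | h5
      · exact hno l h5
      · exact hv h5
  have lemB : ∀ v w : Fin 4 → F, LinearIndependent F ![v, Y.mulVec v] →
      Y.mulVec (Y.mulVec v) + Y.mulVec v + v = 0 →
      Y.mulVec (Y.mulVec w) + Y.mulVec w + w = 0 →
      w ∉ Submodule.span F (Set.range ![v, Y.mulVec v]) →
      LinearIndependent F ![v, Y.mulVec v, w, Y.mulVec w] := by
    intro v w hli2 hWv hWw hwn
    have hli3 : LinearIndependent F ![v, Y.mulVec v, w] := by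
      have h := linearIndependent_fin_snoc.mpr ⟨hli2, hwn⟩
      have e3 : (Fin.snoc ![v, Y.mulVec v] w : Fin 3 → Fin 4 → F) = ![v, Y.mulVec v, w] := by
        funext i; fin_cases i <;> rfl
      rw [e3] at h
      exact h
    have hYw : Y.mulVec w ∉ Submodule.span F (Set.range ![v, Y.mulVec v, w]) := by
      intro hmem
      obtain ⟨c, hc⟩ := (Submodule.mem_span_range_iff_exists_fun F).mp hmem
      rw [Fin.sum_univ_three] at hc
      have hc' : c 0 • v + c 1 • Y.mulVec v + c 2 • w = Y.mulVec w := hc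
      apply hwn
      have h1 : Y.mulVec (Y.mulVec w) =
          c 0 • Y.mulVec v + c 1 • Y.mulVec (Y.mulVec v) + c 2 • Y.mulVec w := by
        conv_lhs => rw [← hc']
        rw [Matrix.mulVec_add, Matrix.mulVec_add, Matrix.mulVec_smul, Matrix.mulVec_smul,
          Matrix.mulVec_smul]
      have h2 : (c 2 * c 2 + c 2 + 1) • w =
          (c 1 - c 0 - c 2 * c 0) • v + (-(c 0) - c 2 * c 1) • Y.mulVec v := by
        linear_combination (norm := module) hWw - h1 - (c 1) • hWv + (1 + c 2) • hc'
      have h4 : w = (c 2 * c 2 + c 2 + 1)⁻¹ • ((c 2 * c 2 + c 2 + 1) • w) := by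
        rw [smul_smul, inv_mul_cancel₀ (hno (c 2)), one_smul]
      rw [h4, h2]
      apply Submodule.smul_mem
      apply Submodule.add_mem
      · exact Submodule.smul_mem _ _ (Submodule.subset_span ⟨0, rfl⟩)
      · exact Submodule.smul_mem _ _ (Submodule.subset_span ⟨1, rfl⟩)
    have h := linearIndependent_fin_snoc.mpr ⟨hli3, hYw⟩
    have e4 : (Fin.snoc ![v, Y.mulVec v, w] (Y.mulVec w) : Fin 4 → Fin 4 → F) =
        ![v, Y.mulVec v, w, Y.mulVec w] := by
      funext i; fin_cases i <;> rfl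
    rw [e4] at h
    exact h
  have hYY : ∀ v : Fin 4 → F, Y.mulVec (Y.mulVec v) + Y.mulVec v + v = 0 →
      Y.mulVec (Y.mulVec v) = -v + -Y.mulVec v := by
    intro v hv
    linear_combination (norm := module) hv
  by_cases hS : Y * Y + Y + 1 = 0
  · have hW : ∀ v, Y.mulVec (Y.mulVec v) + Y.mulVec v + v = 0 := by
      intro v
      have h : (Y * Y + Y + 1).mulVec v = 0 := by rw [hS, Matrix.zero_mulVec]
      rw [Matrix.add_mulVec, Matrix.add_mulVec, Matrix.one_mulVec, ← Matrix.mulVec_mulVec] at h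
      exact h
    obtain ⟨v, hv⟩ : ∃ v : Fin 4 → F, v ≠ 0 :=
      ⟨Pi.single 0 1, by intro h; have := congrFun h 0; simp at this⟩
    have hli2 := lemA v hv (hW v)
    obtain ⟨w, hw3⟩ := exists_linearIndependent_snoc_of_lt_finrank hli2
      (by rw [Module.finrank_fin_fun]; norm_num)
    have hwn := (linearIndependent_fin_snoc.mp hw3).2
    have hli4 := lemB v w hli2 (hW v) (hW w) hwn
    obtain ⟨u, hu, hYu⟩ := frame4 Y nf1 _ hli4 (by
      intro j
      rw [Fin.sum_univ_four]
      fin_cases j <;> simp [nf1, hYY v (hW v), hYY w (hW w)])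
    exact ⟨u, hu, Or.inl hYu⟩
  · obtain ⟨s, hs⟩ : ∃ s, Y.mulVec s ≠ s := by
      by_contra h
      push Not at h
      apply hY1
      apply Matrix.mulVec_injective
      funext x
      rw [Matrix.one_mulVec]; exact h x
    obtain ⟨v, hvdef⟩ : ∃ v, v = Y.mulVec s - s := ⟨_, rfl⟩
    have hv : v ≠ 0 := by rw [hvdef]; exact sub_ne_zero.mpr hs
    have hWv : Y.mulVec (Y.mulVec v) + Y.mulVec v + v = 0 := by
      rw [hvdef, Matrix.mulVec_sub, Matrix.mulVec_sub, hY s]
      abel
    have hli2 := lemA v hv hWv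
    obtain ⟨t0, ht0⟩ : ∃ t0, Y.mulVec (Y.mulVec t0) + Y.mulVec t0 + t0 ≠ 0 := by
      by_contra h
      push Not at h
      apply hS
      apply Matrix.mulVec_injective
      funext x
      rw [Matrix.zero_mulVec, Matrix.add_mulVec, Matrix.add_mulVec, Matrix.one_mulVec,
        ← Matrix.mulVec_mulVec]
      exact h x
    have hWspan : ∀ w, Y.mulVec (Y.mulVec w) + Y.mulVec w + w = 0 →
        w ∈ Submodule.span F (Set.range ![v, Y.mulVec v]) := by
      intro w hWw
      by_contra hwn
      have hli4 := lemB v w hli2 hWv hWw hwn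
      have htop := hli4.span_eq_top_of_card_eq_finrank' (by simp)
      apply ht0
      have hmem : t0 ∈ Submodule.span F (Set.range ![v, Y.mulVec v, w, Y.mulVec w]) := by
        rw [htop]; exact Submodule.mem_top
      have hle : Submodule.span F (Set.range ![v, Y.mulVec v, w, Y.mulVec w]) ≤
          LinearMap.ker (Y * Y + Y + 1).mulVecLin := by
        rw [Submodule.span_le]
        rintro _ ⟨i, rfl⟩
        rw [SetLike.mem_coe, LinearMap.mem_ker, Matrix.mulVecLin_apply, Matrix.add_mulVec,
          Matrix.add_mulVec, Matrix.one_mulVec, ← Matrix.mulVec_mulVec]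
        fin_cases i
        · exact hWv
        · show Y.mulVec (Y.mulVec (Y.mulVec v)) + Y.mulVec (Y.mulVec v) + Y.mulVec v = 0
          rw [hY v]
          linear_combination (norm := module) hWv
        · exact hWw
        · show Y.mulVec (Y.mulVec (Y.mulVec w)) + Y.mulVec (Y.mulVec w) + Y.mulVec w = 0
          rw [hY w]
          linear_combination (norm := module) hWw
      have h := hle hmem
      rw [LinearMap.mem_ker, Matrix.mulVecLin_apply, Matrix.add_mulVec, Matrix.add_mulVec,
        Matrix.one_mulVec, ← Matrix.mulVec_mulVec] at h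
      exact h
    obtain ⟨t1, ht1⟩ := exists_linearIndependent_snoc_of_lt_finrank hli2
      (by rw [Module.finrank_fin_fun]; norm_num)
    have e3 : (Fin.snoc ![v, Y.mulVec v] t1 : Fin 3 → Fin 4 → F) = ![v, Y.mulVec v, t1] := by
      funext i; fin_cases i <;> rfl
    rw [e3] at ht1
    obtain ⟨t2, ht2⟩ := exists_linearIndependent_snoc_of_lt_finrank ht1
      (by rw [Module.finrank_fin_fun]; norm_num)
    have e4 : (Fin.snoc ![v, Y.mulVec v, t1] t2 : Fin 4 → Fin 4 → F) =
        ![v, Y.mulVec v, t1, t2] := by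
      funext i; fin_cases i <;> rfl
    rw [e4] at ht2
    obtain ⟨S, hSdef⟩ : ∃ S : (Fin 4 → F) → (Fin 4 → F),
        ∀ t, S t = Y.mulVec (Y.mulVec t) + Y.mulVec t + t := ⟨_, fun _ => rfl⟩
    have hfix : ∀ t, Y.mulVec (S t) = S t := by
      intro t
      rw [hSdef, Matrix.mulVec_add, Matrix.mulVec_add, hY t]
      abel
    have hW3 : ∀ t, (3 : F) • t - S t ∈ Submodule.span F (Set.range ![v, Y.mulVec v]) := by
      intro t
      apply hWspan
      rw [Matrix.mulVec_sub, Matrix.mulVec_sub, Matrix.mulVec_smul, Matrix.mulVec_smul, hfix,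
        hfix, hSdef]
      module
    have hsub : Submodule.span F (Set.range ![v, Y.mulVec v]) ≤
        Submodule.span F (Set.range ![S t1, S t2, v, Y.mulVec v]) := by
      apply Submodule.span_mono
      rintro _ ⟨i, rfl⟩
      fin_cases i
      · exact ⟨2, rfl⟩
      · exact ⟨3, rfl⟩
    have hmemt : ∀ t, S t ∈ Submodule.span F (Set.range ![S t1, S t2, v, Y.mulVec v]) →
        t ∈ Submodule.span F (Set.range ![S t1, S t2, v, Y.mulVec v]) := by
      intro t hSt
      have e : t = (3 : F)⁻¹ • (S t + ((3 : F) • t - S t)) := by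
        rw [add_sub_cancel, smul_smul, inv_mul_cancel₀ h3, one_smul]
      rw [e]
      exact Submodule.smul_mem _ _ (Submodule.add_mem _ hSt (hsub (hW3 t)))
    have hspan : ⊤ ≤ Submodule.span F (Set.range ![S t1, S t2, v, Y.mulVec v]) := by
      rw [← ht2.span_eq_top_of_card_eq_finrank' (by simp), Submodule.span_le]
      rintro _ ⟨i, rfl⟩
      fin_cases i
      · exact Submodule.subset_span ⟨2, rfl⟩
      · exact Submodule.subset_span ⟨3, rfl⟩
      · exact hmemt t1 (Submodule.subset_span ⟨0, rfl⟩)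
      · exact hmemt t2 (Submodule.subset_span ⟨1, rfl⟩)
    have hli' := linearIndependent_of_top_le_span_of_card_eq_finrank hspan (by simp)
    obtain ⟨u, hu, hYu⟩ := frame4 Y nf2 _ hli' (by
      intro j
      rw [Fin.sum_univ_four]
      fin_cases j <;> simp [nf2, hfix, hYY v hWv])
    exact ⟨u, hu, Or.inr hYu⟩

end

end Cfsg.Agent.Lib.Helper83.C64
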