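import Cfsg.Agent.Lib.Helper83.C64.Ord3

set_option autoImplicit false

namespace Cfsg.Agent.Lib.Helper83.C64

open Cfsg.Agent.Lib.Helper99.C64

universe u

theorem pkgPos3_of (hN : PkgNH.{u}) : PkgPos3.{u} := by
  intro F _ _ p _ _ hF hp4 hp3 ι hι x hx hx3 hxns
  obtain ⟨z, hz⟩ := hx3
  have hpP : p.Prime := Fact.out
  have h2 : (2 : F) ≠ 0 := by
    intro h
    have h' : ((2 : ℕ) : F) = 0 := by exact_mod_cast h
    rw [CharP.cast_eq_zero_iff F p 2] at h'
    have h3 := Nat.le_of_dvd (by norm_num) h'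
    have h4 := hpP.two_le
    omega
  have h3 : (3 : F) ≠ 0 := by
    intro h
    have h' : ((3 : ℕ) : F) = 0 := by exact_mod_cast h
    rw [CharP.cast_eq_zero_iff F p 3] at h'
    have h4 := (Nat.prime_dvd_prime_iff_eq hpP Nat.prime_three).mp h'
    omega
  have hno : ∀ a : F, a * a + a + 1 ≠ 0 := by
    intro a ha
    have ha3 : a ^ 3 = 1 := by linear_combination (a - 1) * ha
    have ha1 : a ≠ 1 := by
      rintro rfl
      apply h3
      linear_combination ha
    have ha0 : a ≠ 0 := by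
      rintro rfl
      simp at ha
    haveI : Fact (Nat.Prime 3) := ⟨Nat.prime_three⟩
    have hord : orderOf a = 3 := orderOf_eq_prime ha3 ha1
    have hpow : a ^ (p - 1) = 1 := by
      rw [← hF]; exact FiniteField.pow_card_sub_one_eq_one a ha0
    have hdvd : 3 ∣ p - 1 := by rw [← hord]; exact orderOf_dvd_of_pow_eq_one hpow
    have h4 := hpP.two_le
    omega
  have hdet := det_eq_one_of_mem_SL4 x hx
  have hXXX : (x : M4 F) * (x : M4 F) * (x : M4 F) = z • (1 : M4 F) := by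
    rw [← hz, pow_three', Units.val_mul, Units.val_mul]
  have hz4 : z ^ 4 = 1 := by
    have h := congrArg Matrix.det hXXX
    rw [Matrix.det_mul, Matrix.det_mul, hdet, Matrix.det_smul, Matrix.det_one, Fintype.card_fin,
      mul_one, mul_one, mul_one] at h
    exact h.symm
  have hzz : z ^ 3 * z = 1 := by rw [← hz4]; ring
  have hx12 : (x : M4 F) ^ 12 = 1 := by
    have e : (x : M4 F) ^ 12 = ((x : M4 F) * (x : M4 F) * (x : M4 F)) ^ 4 := by
      rw [← pow_three', ← pow_mul]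
    rw [e, hXXX, smul_pow, one_pow, hz4, one_smul]
  have h12 : ((12 : ℕ) : F) ≠ 0 := by
    have e : ((12 : ℕ) : F) = 2 * 2 * 3 := by norm_num
    rw [e]; exact mul_ne_zero (mul_ne_zero h2 h2) h3
  have hY3 : z • (x : M4 F) * (z • (x : M4 F)) * (z • (x : M4 F)) = 1 := by
    have e : z • (x : M4 F) * (z • (x : M4 F)) * (z • (x : M4 F)) =
        (z * z * z * z) • (1 : M4 F) := by
      simp only [Matrix.smul_mul, Matrix.mul_smul, smul_smul, hXXX]
      first
      | rfl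
      | (congr 1; ring)
    have e' : z * z * z * z = 1 := by rw [← hz4]; ring
    rw [e, e', one_smul]
  have hY1 : z • (x : M4 F) ≠ 1 := by
    intro h
    apply hxns
    refine ⟨z ^ 3, ?_⟩
    have h' := congrArg (fun M : M4 F => z ^ 3 • M) h
    simp only [smul_smul] at h'
    rw [hzz, one_smul] at h'
    exact h'
  obtain ⟨u, hu, hcases⟩ := ord3_frame4 h3 hno (z • (x : M4 F)) hY3 hY1
  have key : ∀ (M N uM : M4 F), IsUnit uM → M * uM = uM * N → z • (x : M4 F) * u = u * N →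
      ∃ g ∈ SL4 F, ((g⁻¹ * x * g : GL (Fin 4) F) : M4 F) = z ^ 3 • M := by
    intro M N uM huM hM hxN
    obtain ⟨uMi, h1, h2'⟩ : ∃ uMi : M4 F, uM * uMi = 1 ∧ uMi * uM = 1 := by
      obtain ⟨U, hU⟩ := huM
      exact ⟨U.inv, by rw [← hU]; exact U.val_inv, by rw [← hU]; exact U.inv_val⟩
    have hNM : N * uMi = uMi * M := by
      have e : N = uMi * (M * uM) := by rw [hM, ← mul_assoc, h2', one_mul]
      rw [e, mul_assoc, mul_assoc, h1, mul_one]
    have hw : IsUnit (u * uMi) := hu.mul (isUnit_of_mul_eq_one_right uMi uM h2')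
    apply sl_conj_of_gl_conj x hx (z ^ 3 • M) 12 h12 hx12 (u * uMi) hw
    have e : (x : M4 F) = z ^ 3 • (z • (x : M4 F)) := by rw [smul_smul, hzz, one_smul]
    rw [Matrix.mul_smul, mul_assoc u, ← hNM, ← mul_assoc u, ← hxN, ← mul_assoc, Matrix.smul_mul,
      Matrix.smul_mul, smul_smul, hzz, one_smul]
  obtain ⟨uA, huA, hA1⟩ := hA_frame h2 ι hι
  obtain ⟨uB, huB, hB1⟩ := hB_frame h2 h3 ι hι
  rcases hcases with h | h
  · obtain ⟨g, hg, hgM⟩ := key (hA ι) nf1 uA huA hA1 h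
    exact ⟨g, hg, hN F h2 ι hι _ (z ^ 3) (Or.inl hgM)⟩
  · obtain ⟨g, hg, hgM⟩ := key (hB ι) nf2 uB huB hB1 h
    exact ⟨g, hg, hN F h2 ι hι _ (z ^ 3) (Or.inr hgM)⟩

end Cfsg.Agent.Lib.Helper83.C64
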